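import Groth.Prelude.Def_Found
import Mathlib

/-!
# N-1 and N-2 domains: independence of the fraction field, localizations, covers
-/

set_option autoImplicit false
set_option linter.style.haveILetI false

universe u

namespace Groth.Agent.N12Aux

/-- N-1 may be tested in any fraction field. -/
theorem finite_of_isN1 {R : Type u} [CommRing R] [IsDomain R] (h : CAlg.IsN1 R)
    (K : Type u) [Field K] [Algebra R K] [IsFractionRing R K] :
    Module.Finite R (integralClosure R K) := by
  haveI : Module.Finite R (integralClosure R (FractionRing R)) := h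
  exact Module.Finite.equiv
    (AlgEquiv.mapIntegralClosure (FractionRing.algEquiv R K)).toLinearEquiv

/-- N-2 may be tested with any fraction field below the extension. -/
theorem finite_of_isN2 {R : Type u} [CommRing R] [IsDomain R] (h : CAlg.IsN2 R)
    (K : Type u) [Field K] [Algebra R K] [IsFractionRing R K]
    (L : Type u) [Field L] [Algebra R L] [Algebra K L] [IsScalarTower R K L]
    [hfin : FiniteDimensional K L] :
    Module.Finite R (integralClosure R L) := by
  let e : FractionRing R ≃ₐ[R] K := FractionRing.algEquiv R K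
  letI : Algebra (FractionRing R) L := ((algebraMap K L).comp e.toRingEquiv.toRingHom).toAlgebra
  haveI : IsScalarTower R (FractionRing R) L := IsScalarTower.of_algebraMap_eq fun r => by
    show algebraMap R L r = algebraMap K L (e (algebraMap R (FractionRing R) r))
    rw [e.commutes, ← IsScalarTower.algebraMap_apply R K L]
  haveI : FiniteDimensional (FractionRing R) L :=
    RingHom.finite_algebraMap.1 (RingHom.Finite.comp (RingHom.finite_algebraMap.2 hfin)
      (RingHom.Finite.of_surjective e.toRingEquiv.toRingHom e.surjective))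
  exact h L ‹_›

/-- Integral closures commute with localization, as far as finiteness is concerned. -/
theorem finite_of_isLocalization {R : Type u} [CommRing R] (M : Submonoid R) (S : Type u) [CommRing S]
    [Algebra R S] [IsLocalization M S] (L : Type u) [CommRing L] [Algebra R L] [Algebra S L]
    [IsScalarTower R S L] [hRL : Module.Finite R (integralClosure R L)] :
    Module.Finite S (integralClosure S L) := by
  let i : integralClosure R L →ₗ[R] integralClosure S L :=
    { toFun := fun z => ⟨z.1, z.2.tower_top⟩
      map_add' := fun _ _ => rfl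
      map_smul' := fun _ _ => rfl }
  obtain ⟨s, hs⟩ := hRL.fg_top
  classical
  refine ⟨⟨s.image i, top_le_iff.1 fun z _ => ?_⟩⟩
  obtain ⟨⟨c, hc⟩, hm⟩ := IsIntegral.exists_multiple_integral_of_isLocalization M (z : L) z.2
  let w : integralClosure R L := ⟨_, hm⟩
  have h1 : i w ∈ Submodule.span S ((s.image i : Finset _) : Set (integralClosure S L)) := by
    refine Submodule.span_le_restrictScalars R S _ ?_
    rw [Finset.coe_image, Submodule.span_image, hs]
    exact ⟨w, Submodule.mem_top, rfl⟩
  have h2 : algebraMap R S c • z ∈ Submodule.span S ((s.image i : Finset _) : Set (integralClosure S L)) := by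
    convert h1 using 1
    refine Subtype.ext ?_
    show algebraMap R S c • (z : L) = (⟨c, hc⟩ : M) • (z : L)
    rw [algebraMap_smul]
    rfl
  exact (Submodule.smul_mem_iff_of_isUnit _ (IsLocalization.map_units S (⟨c, hc⟩ : M))).1 h2

/-- Finiteness of an integral closure is local on a finite cover. -/
theorem finite_of_cover {R : Type u} [CommRing R] (L : Type u) [CommRing L] [Algebra R L]
    {ι : Type*} [Finite ι] (f : ι → R) (hf : Ideal.span (Set.range f) = ⊤)
    (Rf : ι → Type u) [∀ i, CommRing (Rf i)] [∀ i, Algebra R (Rf i)]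
    [∀ i, IsLocalization.Away (f i) (Rf i)] [∀ i, Algebra (Rf i) L]
    [∀ i, IsScalarTower R (Rf i) L]
    (h : ∀ i, Module.Finite (Rf i) (integralClosure (Rf i) L)) :
    Module.Finite R (integralClosure R L) := by
  classical
  let C := integralClosure R L
  have key : ∀ i, ∃ T : Finset C, ∀ z : C, ∃ n : ℕ, f i ^ n • z ∈ Submodule.span R (T : Set C) := by
    intro i
    obtain ⟨s, hs⟩ := (h i).fg_top
    have hm : ∀ w : integralClosure (Rf i) L, ∃ n : ℕ, IsIntegral R (f i ^ n • (w : L)) := by
      intro w
      obtain ⟨⟨_, n, rfl⟩, hm⟩ := IsIntegral.exists_multiple_integral_of_isLocalization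
        (Submonoid.powers (f i)) (w : L) w.2
      exact ⟨n, hm⟩
    choose n hn using hm
    refine ⟨s.image fun w => ⟨_, hn w⟩, fun z => ?_⟩
    let z' : integralClosure (Rf i) L := ⟨z.1, z.2.tower_top⟩
    have hz' : z' ∈ Submodule.span (Rf i) (s : Set (integralClosure (Rf i) L)) := by
      rw [hs]; exact Submodule.mem_top
    suffices ∀ w ∈ Submodule.span (Rf i) (s : Set (integralClosure (Rf i) L)), ∃ (m : ℕ) (c : C),
        c ∈ Submodule.span R ((s.image fun w => (⟨_, hn w⟩ : C) : Finset C) : Set C) ∧
        (c : L) = f i ^ m • (w : L) by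
      obtain ⟨m, c, hc, hcz⟩ := this z' hz'
      refine ⟨m, ?_⟩
      rwa [show f i ^ m • z = c from Subtype.ext hcz.symm]
    intro w hw
    induction hw using Submodule.span_induction with
    | mem x hx =>
      exact ⟨n x, ⟨_, hn x⟩, Submodule.subset_span (Finset.mem_image_of_mem _ hx), rfl⟩
    | zero => exact ⟨0, 0, Submodule.zero_mem _, by simp⟩
    | add x y _ _ hx hy =>
      obtain ⟨m, c, hc, hcx⟩ := hx
      obtain ⟨m', c', hc', hcy⟩ := hy
      refine ⟨m + m', f i ^ m' • c + f i ^ m • c',
        Submodule.add_mem _ (Submodule.smul_mem _ _ hc) (Submodule.smul_mem _ _ hc'), ?_⟩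
      push_cast
      rw [hcx, hcy, smul_smul, smul_smul, ← pow_add, ← pow_add, smul_add, add_comm m' m]
    | smul a x _ hx =>
      obtain ⟨m, c, hc, hcx⟩ := hx
      obtain ⟨r, ⟨_, k, rfl⟩, rfl⟩ := IsLocalization.exists_mk'_eq (Submonoid.powers (f i)) a
      refine ⟨m + k, r • c, Submodule.smul_mem _ _ hc, ?_⟩
      have e : (f i ^ k) • IsLocalization.mk' (Rf i) r (⟨f i ^ k, k, rfl⟩ : Submonoid.powers (f i)) =
          algebraMap R (Rf i) r := by
        rw [Algebra.smul_def]
        exact IsLocalization.mk'_spec' (Rf i) r (⟨f i ^ k, k, rfl⟩ : Submonoid.powers (f i))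
      show r • (c : L) = f i ^ (m + k) • (_ • (x : L))
      rw [hcx, pow_add, ← smul_smul, ← smul_assoc (f i ^ k), e, algebraMap_smul, smul_comm]
  choose T hT using key
  cases nonempty_fintype ι
  refine ⟨⟨Finset.univ.biUnion T, top_le_iff.1 fun z _ => ?_⟩⟩
  refine Submodule.mem_of_span_eq_top_of_smul_pow_mem _ (Set.range f) hf z ?_
  rintro ⟨_, i, rfl⟩
  obtain ⟨n, hn⟩ := hT i z
  exact ⟨n, Submodule.span_mono
    (Finset.coe_subset.2 (Finset.subset_biUnion_of_mem T (Finset.mem_univ i))) hn⟩

/-- Nonzero members still form a cover. -/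
theorem span_range_subtype_ne {R : Type*} [CommRing R] {ι : Type*} (g : ι → R)
    (hg : Ideal.span (Set.range g) = ⊤) :
    Ideal.span (Set.range fun i : {i // g i ≠ 0} => g i) = ⊤ := by
  rw [eq_top_iff, ← hg, Ideal.span_le]
  rintro _ ⟨i, rfl⟩
  by_cases h : g i = 0
  · rw [h]; exact Submodule.zero_mem _
  · exact Ideal.subset_span ⟨⟨i, h⟩, rfl⟩

/-- A localization of a domain at nonzero elements has the same fraction field. -/
theorem isFractionRing_trans (R : Type u) [CommRing R] [IsDomain R] (M : Submonoid R)
    (hM : M ≤ nonZeroDivisors R)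
    (S : Type u) [CommRing S] [Algebra R S] [IsLocalization M S]
    (K : Type u) [Field K] [Algebra R K] [IsFractionRing R K] :
    ∃ (_ : Algebra S K), IsScalarTower R S K ∧ IsFractionRing S K := by
  have hg : ∀ y : M, IsUnit (algebraMap R K y) := fun y =>
    (IsUnit.mk0 _ <| (map_ne_zero_iff _ (IsFractionRing.injective R K)).2
      (nonZeroDivisors.ne_zero (hM y.2)))
  letI : Algebra S K := (IsLocalization.lift hg).toAlgebra
  haveI : IsScalarTower R S K := IsScalarTower.of_algebraMap_eq fun r =>
    (IsLocalization.lift_eq hg r).symm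
  exact ⟨inferInstance, inferInstance, IsFractionRing.isFractionRing_of_isDomain_of_isLocalization M S K⟩

/-- A domain localization avoids zero. -/
theorem le_nonZeroDivisors {R : Type u} [CommRing R] [IsDomain R] (M : Submonoid R) (S : Type u)
    [CommRing S] [IsDomain S] [Algebra R S] [IsLocalization M S] : M ≤ nonZeroDivisors R :=
  fun x hx => mem_nonZeroDivisors_of_ne_zero fun h => by
    have := IsLocalization.map_units S (⟨x, hx⟩ : M)
    simp [h] at this

theorem isN1_of_isLocalization {R : Type u} [CommRing R] [IsDomain R] (h : CAlg.IsN1 R)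
    (M : Submonoid R) (S : Type u) [CommRing S] [IsDomain S] [Algebra R S] [IsLocalization M S] :
    CAlg.IsN1 S := by
  haveI := finite_of_isN1 h (FractionRing R)
  obtain ⟨iS, hT, hF⟩ := isFractionRing_trans R M (le_nonZeroDivisors M S) S (FractionRing R)
  haveI := finite_of_isLocalization M S (FractionRing R)
  show Module.Finite S (integralClosure S (FractionRing S))
  exact Module.Finite.equiv
    (AlgEquiv.mapIntegralClosure (FractionRing.algEquiv S (FractionRing R)).symm).toLinearEquiv

theorem isN2_of_isLocalization {R : Type u} [CommRing R] [IsDomain R] (h : CAlg.IsN2 R)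
    (M : Submonoid R) (S : Type u) [CommRing S] [IsDomain S] [Algebra R S] [IsLocalization M S] :
    CAlg.IsN2 S := by
  intro L _ _ _ _ hfin
  obtain ⟨iS, hT, hF⟩ := isFractionRing_trans R M (le_nonZeroDivisors M S) S (FractionRing R)
  let e : FractionRing S ≃ₐ[S] FractionRing R := FractionRing.algEquiv S (FractionRing R)
  letI : Algebra R L := ((algebraMap S L).comp (algebraMap R S)).toAlgebra
  haveI : IsScalarTower R S L := IsScalarTower.of_algebraMap_eq fun _ => rfl
  letI : Algebra (FractionRing R) L :=
    ((algebraMap (FractionRing S) L).comp e.symm.toRingEquiv.toRingHom).toAlgebra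
  haveI : IsScalarTower R (FractionRing R) L := IsScalarTower.of_algebraMap_eq fun r => by
    show algebraMap S L (algebraMap R S r) =
      algebraMap (FractionRing S) L (e.symm (algebraMap R (FractionRing R) r))
    rw [IsScalarTower.algebraMap_apply R S (FractionRing R), e.symm.commutes,
      ← IsScalarTower.algebraMap_apply S (FractionRing S) L]
  haveI : FiniteDimensional (FractionRing R) L :=
    RingHom.finite_algebraMap.1 (RingHom.Finite.comp (RingHom.finite_algebraMap.2 hfin)
      (RingHom.Finite.of_surjective e.symm.toRingEquiv.toRingHom e.symm.surjective))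
  haveI := finite_of_isN2 h (FractionRing R) L
  exact finite_of_isLocalization M S L

/-- An integral domain with `Rf i` N-1 on a cover is N-1. -/
theorem isN1_of_cover {R : Type u} [CommRing R] [IsDomain R] {ι : Type*} [Finite ι] (f : ι → R)
    (hf : Ideal.span (Set.range f) = ⊤) (Rf : ι → Type u) [∀ i, CommRing (Rf i)]
    [∀ i, IsDomain (Rf i)] [∀ i, Algebra R (Rf i)] [∀ i, IsLocalization.Away (f i) (Rf i)]
    (h : ∀ i, CAlg.IsN1 (Rf i)) : CAlg.IsN1 R := by
  have H := fun i => isFractionRing_trans R (Submonoid.powers (f i))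
    (le_nonZeroDivisors (Submonoid.powers (f i)) (Rf i)) (Rf i) (FractionRing R)
  choose iA hT hF using H
  exact finite_of_cover (FractionRing R) f hf Rf fun i => finite_of_isN1 (h i) (FractionRing R)

theorem isN2_of_cover {R : Type u} [CommRing R] [IsDomain R] {ι : Type*} [Finite ι] (f : ι → R)
    (hf : Ideal.span (Set.range f) = ⊤) (Rf : ι → Type u) [∀ i, CommRing (Rf i)]
    [∀ i, IsDomain (Rf i)] [∀ i, Algebra R (Rf i)] [∀ i, IsLocalization.Away (f i) (Rf i)]
    (h : ∀ i, CAlg.IsN2 (Rf i)) : CAlg.IsN2 R := by
  intro L _ _ _ _ hfin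
  have H := fun i => isFractionRing_trans R (Submonoid.powers (f i))
    (le_nonZeroDivisors (Submonoid.powers (f i)) (Rf i)) (Rf i) (FractionRing R)
  choose iA hT hF using H
  letI : ∀ i, Algebra (Rf i) L := fun i =>
    ((algebraMap (FractionRing R) L).comp (algebraMap (Rf i) (FractionRing R))).toAlgebra
  haveI : ∀ i, IsScalarTower (Rf i) (FractionRing R) L := fun i =>
    IsScalarTower.of_algebraMap_eq fun _ => rfl
  haveI : ∀ i, IsScalarTower R (Rf i) L := fun i => IsScalarTower.of_algebraMap_eq fun r => by
    show algebraMap R L r = algebraMap (FractionRing R) L (algebraMap (Rf i) (FractionRing R) _)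
    rw [← IsScalarTower.algebraMap_apply R (Rf i) (FractionRing R),
      ← IsScalarTower.algebraMap_apply R (FractionRing R) L]
  exact finite_of_cover L f hf Rf fun i => finite_of_isN2 (h i) (FractionRing R) L

/-- A domain with a cover such that all nonzero localizations are N-2 is N-2. -/
theorem isN2_of_cover_ne {R : Type u} [CommRing R] [IsDomain R] {ι : Type*} [Finite ι] (f : ι → R)
    (hf : Ideal.span (Set.range f) = ⊤)
    (h : ∀ i, f i ≠ 0 → ∀ [IsDomain (Localization.Away (f i))], CAlg.IsN2 (Localization.Away (f i))) :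
    CAlg.IsN2 R := by
  haveI : ∀ i : {i // f i ≠ 0}, IsDomain (Localization.Away (f i)) := fun i =>
    IsLocalization.isDomain_localization (powers_le_nonZeroDivisors_of_noZeroDivisors i.2)
  exact isN2_of_cover (fun i : {i // f i ≠ 0} => f i) (span_range_subtype_ne f hf)
    (fun i => Localization.Away (f i)) fun i => h i i.2

/-- If all domains of finite type over `R` are N-1 then they are all N-2. -/
theorem isN2_of_forall_isN1 {R : Type u} [CommRing R]
    (h : ∀ (S : Type u) [CommRing S] [IsDomain S] [Algebra R S], Algebra.FiniteType R S → CAlg.IsN1 S)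
    (S : Type u) [CommRing S] [IsDomain S] [Algebra R S] [Algebra.FiniteType R S] :
    CAlg.IsN2 S := by
  intro L _ _ _ _ hfin
  classical
  haveI : Algebra.IsAlgebraic S L :=
    (IsFractionRing.comap_isAlgebraic_iff (A := S) (K := FractionRing S)).mpr inferInstance
  have hex : ∀ z : L, ∃ y : S, y ≠ 0 ∧ IsIntegral S (algebraMap S L y * z) := by
    intro z
    obtain ⟨y, hy0, hy⟩ := (Algebra.IsAlgebraic.isAlgebraic (R := S) z).exists_integral_multiple
    exact ⟨y, hy0, by rwa [← Algebra.smul_def]⟩
  choose y hy0 hyi using hex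
  obtain ⟨t, ht⟩ : (⊤ : Submodule (FractionRing S) L).FG := Module.Finite.fg_top
  let A : Subalgebra S L := Algebra.adjoin S ((t.image fun z => algebraMap S L (y z) * z : Finset L) : Set L)
  have hfg : A.toSubmodule.FG := fg_adjoin_of_finite (Finset.finite_toSet _) (by
    intro x hx
    obtain ⟨z, -, rfl⟩ := Finset.mem_image.1 hx
    exact hyi z)
  haveI : Module.Finite S A := ⟨(Submodule.fg_top _).mpr hfg⟩
  letI : Algebra R L := ((algebraMap S L).comp (algebraMap R S)).toAlgebra
  haveI : IsScalarTower R S L := IsScalarTower.of_algebraMap_eq fun _ => rfl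
  haveI : Algebra.FiniteType R A := Algebra.FiniteType.trans (S := S) inferInstance inferInstance
  have hA : CAlg.IsN1 A := h A inferInstance
  have hK : ∀ c : FractionRing S, ∃ a b : S, b ≠ 0 ∧
      algebraMap (FractionRing S) L c * algebraMap S L b = algebraMap S L a := by
    intro c
    obtain ⟨a, b, hb, rfl⟩ := IsFractionRing.div_surjective (A := S) c
    refine ⟨a, b, nonZeroDivisors.ne_zero hb, ?_⟩
    rw [IsScalarTower.algebraMap_apply S (FractionRing S) L, IsScalarTower.algebraMap_apply S (FractionRing S) L,
      ← map_mul, div_mul_cancel₀]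
    exact (map_ne_zero_iff _ (IsFractionRing.injective S (FractionRing S))).2 (nonZeroDivisors.ne_zero hb)
  haveI : FaithfulSMul S L := (faithfulSMul_iff_algebraMap_injective S L).2 (by
    rw [IsScalarTower.algebraMap_eq S (FractionRing S) L]
    exact (algebraMap (FractionRing S) L).injective.comp (IsFractionRing.injective S (FractionRing S)))
  have hS : Function.Injective (algebraMap S L) := FaithfulSMul.algebraMap_injective S L
  haveI : IsFractionRing A L := IsFractionRing.of_field _ _ fun z => by
    have hz : z ∈ Submodule.span (FractionRing S) (t : Set L) := by rw [ht]; exact Submodule.mem_top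
    suffices ∃ (a : A) (b : S), b ≠ 0 ∧ z * algebraMap S L b = a by
      obtain ⟨a, b, hb, hab⟩ := this
      refine ⟨a, algebraMap S A b, ?_⟩
      show z = (a : L) / algebraMap S L b
      rw [← hab, mul_div_cancel_right₀]
      exact (map_ne_zero_iff _ hS).2 hb
    induction hz using Submodule.span_induction with
    | mem x hx =>
      refine ⟨⟨algebraMap S L (y x) * x,
        Algebra.subset_adjoin (Finset.mem_image_of_mem _ hx)⟩, y x, hy0 x, ?_⟩
      exact mul_comm _ _
    | zero => exact ⟨0, 1, one_ne_zero, by simp⟩
    | add x x' _ _ hx hx' =>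
      obtain ⟨a, b, hb, hab⟩ := hx
      obtain ⟨a', b', hb', hab'⟩ := hx'
      refine ⟨algebraMap S A b' * a + algebraMap S A b * a', b * b', mul_ne_zero hb hb', ?_⟩
      show _ = algebraMap S L b' * (a : L) + algebraMap S L b * (a' : L)
      rw [← hab, ← hab', map_mul]; ring
    | smul c x _ hx =>
      obtain ⟨a, b, hb, hab⟩ := hx
      obtain ⟨a', b', hb', hab'⟩ := hK c
      refine ⟨algebraMap S A a' * a, b' * b, mul_ne_zero hb' hb, ?_⟩
      show _ = algebraMap S L a' * (a : L)
      rw [← hab, ← hab', map_mul, Algebra.smul_def]; ring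
  haveI := finite_of_isN1 hA L
  haveI : Module.Finite S (integralClosure A L) := Module.Finite.trans A (integralClosure A L)
  let i : integralClosure A L →ₗ[S] integralClosure S L :=
    { toFun := fun z => ⟨z.1, isIntegral_trans z.1 z.2⟩
      map_add' := fun _ _ => rfl
      map_smul' := fun _ _ => rfl }
  exact Module.Finite.of_surjective i fun z => ⟨⟨z.1, z.2.tower_top⟩, rfl⟩

end Groth.Agent.N12Aux
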