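import Groth.Agent.N12Aux.Basic
import Groth.Agent.RedNorm.Basic
import Groth.Agent.S9407

/-!
# Nagata rings: quotients, and descent along smooth surjective maps
-/

set_option autoImplicit false
set_option linter.style.haveILetI false

universe u

open TensorProduct

namespace Groth.Agent.N12Aux

theorem isN2_of_ringEquiv {R S : Type u} [CommRing R] [IsDomain R] [CommRing S] [IsDomain S]
    (e : R ≃+* S) (h : CAlg.IsN2 R) : CAlg.IsN2 S := by
  letI : Algebra R S := e.toRingHom.toAlgebra
  haveI : IsLocalization (⊥ : Submonoid R) S :=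
    { map_units := fun y => by
        obtain ⟨y, hy⟩ := y
        rw [Submonoid.mem_bot] at hy
        subst hy
        simp
      surj := fun z => ⟨⟨e.symm z, 1⟩, by
        show z * algebraMap R S 1 = e (e.symm z)
        rw [map_one, mul_one, e.apply_symm_apply]⟩
      exists_of_eq := fun {x y} hxy => ⟨1, by
        rw [show x = y from e.injective hxy]⟩ }
  exact isN2_of_isLocalization h ⊥ S

theorem isN2_of_isNagata {D : Type u} [CommRing D] [IsDomain D] (h : CAlg.IsNagata D) :
    CAlg.IsN2 D :=
  isN2_of_ringEquiv (RingEquiv.quotientBot D) (h.2 ⊥)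

theorem isNagata_of_surjective {R S : Type u} [CommRing R] [CommRing S] (f : R →+* S)
    (hf : Function.Surjective f) (h : CAlg.IsNagata R) : CAlg.IsNagata S := by
  haveI := h.1
  refine ⟨isNoetherianRing_of_surjective R S f hf, fun q hq => ?_⟩
  have hb : Function.Bijective (Ideal.quotientMap q f (le_refl (q.comap f))) :=
    ⟨Ideal.quotientMap_injective, Ideal.quotientMap_surjective hf⟩
  exact isN2_of_ringEquiv (RingEquiv.ofBijective _ hb) (h.2 (q.comap f))

/-- The integral closure of a Nagata ring in the fraction field of a finite domain over it is finite. -/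
theorem finite_normalization_of_finite {S : Type u} [CommRing S] (hS : CAlg.IsNagata S)
    (C : Type u) [CommRing C] [IsDomain C] [Algebra S C] [Module.Finite S C] :
    Module.Finite S (integralClosure S (FractionRing C)) := by
  let q := RingHom.ker (algebraMap S C)
  haveI : q.IsPrime := RingHom.ker_isPrime _
  letI : Algebra (S ⧸ q) C := (RingHom.kerLift (algebraMap S C)).toAlgebra
  haveI : IsScalarTower S (S ⧸ q) C := IsScalarTower.of_algebraMap_eq fun _ => rfl
  haveI : FaithfulSMul (S ⧸ q) C :=
    (faithfulSMul_iff_algebraMap_injective _ _).2 (RingHom.kerLift_injective _)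
  haveI : Module.Finite (S ⧸ q) C := Module.Finite.of_restrictScalars_finite S _ _
  let K := FractionRing (S ⧸ q)
  let L := FractionRing C
  letI : Algebra K L := FractionRing.liftAlgebra (S ⧸ q) L
  haveI : IsScalarTower (S ⧸ q) K L := FractionRing.isScalarTower_liftAlgebra (S ⧸ q) L
  haveI : FiniteDimensional K L := Module.Finite.of_isLocalization (S ⧸ q) C (nonZeroDivisors (S ⧸ q))
  haveI : IsScalarTower S (S ⧸ q) L := IsScalarTower.of_algebraMap_eq fun s => by
    rw [IsScalarTower.algebraMap_apply S C L, IsScalarTower.algebraMap_apply (S ⧸ q) C L]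
    rfl
  haveI := finite_of_isN2 (hS.2 q) K L
  haveI : Module.Finite S (integralClosure (S ⧸ q) L) := Module.Finite.trans (S ⧸ q) _
  haveI : Algebra.IsIntegral S (S ⧸ q) :=
    algebraMap_isIntegral_iff.1 (RingHom.isIntegral_of_surjective _ Ideal.Quotient.mk_surjective)
  let i : integralClosure (S ⧸ q) L →ₗ[S] integralClosure S L :=
    { toFun := fun z => ⟨z.1, isIntegral_trans z.1 z.2⟩
      map_add' := fun _ _ => rfl
      map_smul' := fun _ _ => rfl }
  exact Module.Finite.of_surjective i fun z => ⟨⟨z.1, z.2.tower_top⟩, rfl⟩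

set_option maxHeartbeats 1000000 in
/-- N-2 descends along smooth faithfully flat maps with Nagata target. -/
theorem isN2_of_smooth {R : Type u} [CommRing R] [IsDomain R] (S : Type u) [CommRing S] [Algebra R S]
    [Algebra.Smooth R S] [Module.FaithfullyFlat R S] (hS : CAlg.IsNagata S) : CAlg.IsN2 R := by
  intro L _ _ _ _ hfin
  classical
  haveI := hS.1
  haveI : FaithfulSMul R L := (faithfulSMul_iff_algebraMap_injective R L).2 (by
    rw [IsScalarTower.algebraMap_eq R (FractionRing R) L]
    exact (algebraMap (FractionRing R) L).injective.comp (IsFractionRing.injective R (FractionRing R)))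
  haveI : Algebra.IsAlgebraic R L :=
    (IsFractionRing.comap_isAlgebraic_iff (A := R) (K := FractionRing R)).mpr inferInstance
  have hex : ∀ z : L, ∃ y : R, y ≠ 0 ∧ IsIntegral R (algebraMap R L y * z) := by
    intro z
    obtain ⟨y, hy0, hy⟩ := (Algebra.IsAlgebraic.isAlgebraic (R := R) z).exists_integral_multiple
    exact ⟨y, hy0, by rwa [← Algebra.smul_def]⟩
  choose y hy0 hyi using hex
  obtain ⟨t, ht⟩ : (⊤ : Submodule (FractionRing R) L).FG := Module.Finite.fg_top
  let A : Subalgebra R L :=
    Algebra.adjoin R ((t.image fun z => algebraMap R L (y z) * z : Finset L) : Set L)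
  have hfg : A.toSubmodule.FG := fg_adjoin_of_finite (Finset.finite_toSet _) (by
    intro x hx
    obtain ⟨z, -, rfl⟩ := Finset.mem_image.1 hx
    exact hyi z)
  haveI : Module.Finite R A := ⟨(Submodule.fg_top _).mpr hfg⟩
  have hR : Function.Injective (algebraMap R L) := FaithfulSMul.algebraMap_injective R L
  haveI : IsFractionRing A L := IsFractionRing.of_field _ _ fun z => by
    have hz : z ∈ Submodule.span (FractionRing R) (t : Set L) := by rw [ht]; exact Submodule.mem_top
    suffices ∃ (a : A) (b : R), b ≠ 0 ∧ z * algebraMap R L b = a by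
      obtain ⟨a, b, hb, hab⟩ := this
      refine ⟨a, algebraMap R A b, ?_⟩
      show z = (a : L) / algebraMap R L b
      rw [← hab, mul_div_cancel_right₀]
      exact (map_ne_zero_iff _ hR).2 hb
    induction hz using Submodule.span_induction with
    | mem x hx =>
      refine ⟨⟨algebraMap R L (y x) * x,
        Algebra.subset_adjoin (Finset.mem_image_of_mem _ hx)⟩, y x, hy0 x, ?_⟩
      exact mul_comm _ _
    | zero => exact ⟨0, 1, one_ne_zero, by simp⟩
    | add x x' _ _ hx hx' =>
      obtain ⟨a, b, hb, hab⟩ := hx
      obtain ⟨a', b', hb', hab'⟩ := hx'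
      refine ⟨algebraMap R A b' * a + algebraMap R A b * a', b * b', mul_ne_zero hb hb', ?_⟩
      show _ = algebraMap R L b' * (a : L) + algebraMap R L b * (a' : L)
      rw [← hab, ← hab', map_mul]; ring
    | smul c x _ hx =>
      obtain ⟨a, b, hb, hab⟩ := hx
      obtain ⟨a', b', hb', rfl⟩ := IsFractionRing.div_surjective (A := R) c
      refine ⟨algebraMap R A a' * a, b' * b, mul_ne_zero (nonZeroDivisors.ne_zero hb') hb, ?_⟩
      show _ = algebraMap R L a' * (a : L)
      have hb'' : algebraMap R L b' ≠ 0 := (map_ne_zero_iff _ hR).2 (nonZeroDivisors.ne_zero hb')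
      rw [← hab, map_mul, Algebra.smul_def, map_div₀, ← IsScalarTower.algebraMap_apply,
        ← IsScalarTower.algebraMap_apply]
      field_simp
  -- the base change of `A`
  let B := S ⊗[R] A
  haveI : IsReduced B := by
    haveI : IsReduced (A ⊗[R] S) := Groth.Agent.S9407.result A (A ⊗[R] S)
    exact isReduced_of_injective (Algebra.TensorProduct.comm R S A).toAlgHom
      (Algebra.TensorProduct.comm R S A).injective
  haveI : IsNoetherianRing B := IsNoetherianRing.of_finite S B
  let T := FractionRing B
  let jA : A →ₐ[R] B := Algebra.TensorProduct.includeRight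
  have hnzd : ∀ a : A, a ≠ 0 → jA a ∈ nonZeroDivisors B := by
    intro a ha
    have hinj : Function.Injective (LinearMap.lTensor S (LinearMap.mulLeft R a)) :=
      Module.Flat.lTensor_preserves_injective_linearMap _ (mul_right_injective₀ ha)
    have hval : ∀ b : B, LinearMap.lTensor S (LinearMap.mulLeft R a) b = jA a * b := by
      intro b
      induction b using TensorProduct.induction_on with
      | zero => simp
      | tmul s a' =>
        show s ⊗ₜ[R] (a * a') = ((1 : S) ⊗ₜ[R] a) * (s ⊗ₜ[R] a')
        rw [Algebra.TensorProduct.tmul_mul_tmul, one_mul]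
      | add x x' hx hx' => rw [map_add, hx, hx', mul_add]
    rw [mem_nonZeroDivisors_iff_right]
    intro b hb
    exact hinj (by rw [hval, map_zero, mul_comm]; exact hb)
  have hu : ∀ a : nonZeroDivisors A, IsUnit ((algebraMap B T).comp jA.toRingHom a) := fun a =>
    IsLocalization.map_units T (⟨jA a, hnzd a (nonZeroDivisors.ne_zero a.2)⟩ : nonZeroDivisors B)
  let ι₀ : L →+* T := IsLocalization.lift hu
  have hι₀ : ∀ a : A, ι₀ (algebraMap A L a) = algebraMap B T (jA a) := fun a =>
    IsLocalization.lift_eq hu a
  let ι : L →ₐ[R] T :=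
    { toRingHom := ι₀
      commutes' := fun r => by
        show ι₀ (algebraMap R L r) = algebraMap R T r
        rw [IsScalarTower.algebraMap_apply R A L, hι₀, jA.commutes,
          ← IsScalarTower.algebraMap_apply R B T] }
  let Φ : S ⊗[R] L →ₐ[S] T := Algebra.TensorProduct.lift (Algebra.ofId S T) ι fun _ _ => Commute.all _ _
  let m : B →ₐ[S] S ⊗[R] L := Algebra.TensorProduct.map (AlgHom.id S S) A.val
  have hΦm : ∀ b : B, Φ (m b) = algebraMap B T b := by
    have : Φ.comp m = IsScalarTower.toAlgHom S B T := by
      refine Algebra.TensorProduct.ext ?_ ?_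
      · exact AlgHom.ext fun s => AlgHom.commutes _ s
      · refine AlgHom.ext fun a => ?_
        show Φ (1 ⊗ₜ[R] (a : L)) = algebraMap B T (jA a)
        rw [Algebra.TensorProduct.lift_tmul, map_one, one_mul]
        exact hι₀ a
    exact fun b => DFunLike.congr_fun this b
  have hclear : ∀ z : S ⊗[R] L, ∃ a : A, a ≠ 0 ∧ ∃ b : B, z * (1 ⊗ₜ[R] (a : L)) = m b := by
    intro z
    induction z using TensorProduct.induction_on with
    | zero => exact ⟨1, one_ne_zero, 0, by simp⟩
    | tmul s l =>
      obtain ⟨a, b, hb, rfl⟩ := IsFractionRing.div_surjective (A := A) l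
      refine ⟨b, nonZeroDivisors.ne_zero hb, s ⊗ₜ a, ?_⟩
      rw [Algebra.TensorProduct.tmul_mul_tmul, mul_one, Algebra.TensorProduct.map_tmul,
        show ((b : A) : L) = algebraMap A L b from rfl, div_mul_cancel₀]
      · rfl
      · exact (map_ne_zero_iff _ (IsFractionRing.injective A L)).2 (nonZeroDivisors.ne_zero hb)
    | add x x' hx hx' =>
      obtain ⟨a, ha, b, hb⟩ := hx
      obtain ⟨a', ha', b', hb'⟩ := hx'
      refine ⟨a * a', mul_ne_zero ha ha', b * jA a' + b' * jA a, ?_⟩
      rw [map_add, map_mul, map_mul, ← hb, ← hb',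
        show m (jA a) = 1 ⊗ₜ[R] (a : L) from Algebra.TensorProduct.map_tmul _ _ _ _,
        show m (jA a') = 1 ⊗ₜ[R] (a' : L) from Algebra.TensorProduct.map_tmul _ _ _ _,
        MulMemClass.coe_mul, ← one_mul (1 : S), ← Algebra.TensorProduct.tmul_mul_tmul, one_mul]
      ring
  have hΦ : Function.Injective Φ := by
    rw [injective_iff_map_eq_zero]
    intro z hz
    obtain ⟨a, ha, b, hb⟩ := hclear z
    have : algebraMap B T b = 0 := by rw [← hΦm, ← hb, map_mul, hz, zero_mul]
    have hb0 : b = 0 := IsFractionRing.injective B T (this.trans (map_zero _).symm)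
    rw [hb0, map_zero] at hb
    have hua : IsUnit ((1 : S) ⊗ₜ[R] (a : L)) :=
      (IsUnit.mk0 (a : L) fun h => ha (Subtype.ext h)).map
        (Algebra.TensorProduct.includeRight : L →ₐ[R] S ⊗[R] L)
    exact hua.mul_left_eq_zero.1 hb
  -- finiteness of the integral closure of `S` in `T`
  haveI : ∀ P : Groth.Agent.RedNorm.MinP B, Module.Finite S (integralClosure S (FractionRing (B ⧸ P.1))) :=
    fun P => finite_normalization_of_finite hS (B ⧸ P.1)
  haveI : Finite (Groth.Agent.RedNorm.MinP B) := (minimalPrimes.finite_of_isNoetherianRing B).to_subtype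
  let τ : T →ₐ[S] Groth.Agent.RedNorm.PiK B := (Groth.Agent.RedNorm.toPi B).restrictScalars S
  let i : integralClosure S T →ₗ[S]
      ((P : Groth.Agent.RedNorm.MinP B) → integralClosure S (FractionRing (B ⧸ P.1))) :=
    LinearMap.pi fun P => (((Pi.evalAlgHom S _ P).comp τ).comp (integralClosure S T).val).toLinearMap.codRestrict
      (integralClosure S (FractionRing (B ⧸ P.1))).toSubmodule fun z => z.2.map ((Pi.evalAlgHom S _ P).comp τ)
  have hi : Function.Injective i := fun a b hab => Subtype.ext <|
    Groth.Agent.RedNorm.toPi_injective B <| funext fun P => congrArg Subtype.val (congrFun hab P)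
  haveI : Module.Finite S (integralClosure S T) := Module.Finite.of_injective i hi
  let C := integralClosure R L
  let ψ : S ⊗[R] C →ₐ[S] T := Φ.comp (Algebra.TensorProduct.map (AlgHom.id S S) C.val)
  have hψ : Function.Injective ψ := hΦ.comp
    (Module.Flat.lTensor_preserves_injective_linearMap (M := S) C.val.toLinearMap Subtype.val_injective)
  have hmem : ∀ z, ψ z ∈ integralClosure S T := by
    intro z
    induction z using TensorProduct.induction_on with
    | zero => rw [map_zero]; exact Subalgebra.zero_mem _
    | tmul s c =>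
      show IsIntegral S (ψ (s ⊗ₜ c))
      rw [show s ⊗ₜ[R] c = s • ((1 : S) ⊗ₜ[R] c) by rw [TensorProduct.smul_tmul', smul_eq_mul, mul_one],
        map_smul]
      refine IsIntegral.smul s ?_
      show IsIntegral S (Φ (1 ⊗ₜ[R] (c : L)))
      rw [Algebra.TensorProduct.lift_tmul, map_one, one_mul]
      exact (c.2.map ι).tower_top
    | add x x' hx hx' => rw [map_add]; exact Subalgebra.add_mem _ hx hx'
  haveI : Module.Finite S (S ⊗[R] C) :=
    Module.Finite.of_injective (ψ.toLinearMap.codRestrict (integralClosure S T).toSubmodule hmem)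
      fun a b hab => hψ (congrArg Subtype.val hab)
  exact Module.Finite.of_finite_tensorProduct_of_faithfullyFlat S

theorem isNagata_of_smooth {R : Type u} [CommRing R] (S : Type u) [CommRing S] [Algebra R S]
    [Algebra.Smooth R S] (hs : Function.Surjective (PrimeSpectrum.comap (algebraMap R S)))
    (hS : CAlg.IsNagata S) : CAlg.IsNagata R := by
  haveI := hS.1
  haveI : Module.FaithfullyFlat R S := Module.FaithfullyFlat.of_comap_surjective hs
  refine ⟨⟨fun I => ?_⟩, fun p hp => ?_⟩
  · haveI : Module.Finite S (S ⊗[R] I) :=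
      Module.Finite.of_injective
        ((TensorProduct.AlgebraTensorModule.rid R S S).toLinearMap ∘ₗ
          TensorProduct.AlgebraTensorModule.map LinearMap.id I.subtype)
        ((TensorProduct.AlgebraTensorModule.rid R S S).injective.comp
          (Module.Flat.lTensor_preserves_injective_linearMap (M := S) I.subtype Subtype.val_injective))
    haveI : Module.Finite R I := Module.Finite.of_finite_tensorProduct_of_faithfullyFlat S
    exact Module.Finite.iff_fg.1 this
  · haveI : Module.FaithfullyFlat (R ⧸ p) ((R ⧸ p) ⊗[R] S) := inferInstance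
    refine isN2_of_smooth ((R ⧸ p) ⊗[R] S) (isNagata_of_surjective
      (Algebra.TensorProduct.includeRight : S →ₐ[R] (R ⧸ p) ⊗[R] S).toRingHom
      (Algebra.TensorProduct.includeRight_surjective _ Ideal.Quotient.mk_surjective) hS)

end Groth.Agent.N12Aux
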